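import Groth.Agent.RefOne.Extend
import Groth.Agent.CurveLib.Inv
import Groth.Agent.SerreLib.Normal
import Groth.Agent.S1561
import Groth.Agent.FinBirLib.Smooth
import Groth.Agent.PicLib.Group

/-!
# Classes on a normal variety are determined on the smooth locus
-/

set_option autoImplicit false
set_option backward.isDefEq.respectTransparency false
set_option linter.style.haveILetI false
set_option maxHeartbeats 1000000

universe u

open CategoryTheory CategoryTheory.Limits AlgebraicGeometry
open Groth.Agent.PicLib

noncomputable section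

namespace Groth.Agent.LinkLib

variable {X : Scheme.{u}} [IsLocallyNoetherian X] [IsIntegral X]

theorem isReflexiveAt_of_isInvertible {L : X.Modules} (hL : PicF.IsInvertible L) (x : X) :
    RefHull.IsReflexiveAt L x := by
  obtain ⟨e, he⟩ := ParaFLib.exists_stalk_gen hL x
  exact Module.equiv (LinearEquiv.ofBijective (LinearMap.toSpanSingleton (X.presheaf.stalk x) _ e) he)

/-- Classes agreeing on a big open subset of a normal scheme agree. -/
theorem pull_ι_injective (hn : Pi1.IsNormalScheme X) (U : X.Opens)
    (hU : ∀ x : X, x ∉ U → 1 < ringKrullDim (X.presheaf.stalk x)) : Function.Injective (pull U.ι) := by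
  intro a b hab
  obtain ⟨L, hL, rfl⟩ := exists_cls a
  obtain ⟨M, hM, rfl⟩ := exists_cls b
  rw [pull_cls, pull_cls, cls_eq_cls] at hab
  obtain ⟨e⟩ := hab
  have hd : ∀ x : X, x ∉ U → (2 : ℕ∞) ≤ LocCoh.depth (X.presheaf.stalk x) (X.presheaf.stalk x) := fun x hx => by
    haveI := (hn x).1
    haveI := (hn x).2
    exact SerreLib.two_le_depth_of_normal (hU x hx)
  haveI := RefOne.isIso_unit U (CurveLib.isCoh_of_isInvertible hL) (isReflexiveAt_of_isInvertible hL) hd
  haveI := RefOne.isIso_unit U (CurveLib.isCoh_of_isInvertible hM) (isReflexiveAt_of_isInvertible hM) hd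
  refine (cls_eq_cls hL hM).2 ⟨asIso ((Scheme.Modules.restrictAdjunction U.ι).unit.app L) ≪≫
    (Scheme.Modules.pushforward U.ι).mapIso ?_ ≪≫ (asIso ((Scheme.Modules.restrictAdjunction U.ι).unit.app M)).symm⟩
  exact (Scheme.Modules.restrictFunctorIsoPullback U.ι).app L ≪≫ e ≪≫
    ((Scheme.Modules.restrictFunctorIsoPullback U.ι).app M).symm

/-- Outside the smooth locus of a normal variety over a perfect field the local rings have dimension at least two. -/
theorem one_lt_dim_of_not_smooth {k : Type u} [Field k] [PerfectField k] (f : X ⟶ Spec (CommRingCat.of k))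
    [LocallyOfFinitePresentation f] (hn : Pi1.IsNormalScheme X) (x : X) (hx : x ∉ f.smoothLocus) :
    1 < ringKrullDim (X.presheaf.stalk x) := by
  letI : X.Over (Spec (CommRingCat.of k)) := ⟨f⟩
  haveI : LocallyOfFinitePresentation (X ↘ Spec (CommRingCat.of k)) := ‹LocallyOfFinitePresentation f›
  by_contra h
  haveI := (hn x).1
  haveI := (hn x).2
  haveI : Ring.KrullDimLE 1 (X.presheaf.stalk x) := (Order.krullDimLE_iff _ _).2 (not_lt.1 h)
  exact hx (((Groth.Agent.S1561.result k X).1 x).2 (FinBirLib.isRegularLocalRing_of_normal_dimLE_one _))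

end Groth.Agent.LinkLib
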